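import Cfsg.Agent.Lib.J2Ico.Coord

/-!
# The coordinate frame of the icosian Leech lattice (generated data)
-/

namespace Cfsg.Agent.Lib.J2Leech

open Cfsg.Agent.Lib.J2Ico Cfsg.Agent.Lib.J2Ico.Q8

/-- The frame: for a point number, the block and the icosian. -/
def frT : List (ℕ × Q8) := [(0, ⟨-3,2,1,0,1,0,1,0⟩), (0, ⟨-1,0,-3,2,1,0,-1,0⟩), (0, ⟨-1,0,-1,0,-3,2,1,0⟩), (0, ⟨-1,0,-1,0,1,-2,1,0⟩), (0, ⟨-1,0,1,-2,1,0,-1,0⟩), (1, ⟨-3,2,1,0,1,0,1,0⟩), (2, ⟨-1,0,1,0,-1,0,-3,2⟩), (0, ⟨-1,0,1,0,-1,0,-3,2⟩), (1, ⟨-1,0,1,0,-1,0,1,-2⟩), (1, ⟨-1,0,-1,0,1,-2,1,0⟩), (0, ⟨1,-2,1,0,1,0,1,0⟩), (1, ⟨-1,0,1,0,-1,0,-3,2⟩),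 (0, ⟨-1,0,1,0,-1,0,1,-2⟩), (1, ⟨1,-2,1,0,1,0,1,0⟩), (2, ⟨-1,0,1,-2,1,0,-1,0⟩), (2, ⟨-1,0,1,0,-1,0,1,-2⟩), (1, ⟨-1,0,-1,0,-3,2,1,0⟩), (1, ⟨-1,0,1,-2,1,0,-1,0⟩), (2, ⟨1,-2,1,0,1,0,1,0⟩), (2, ⟨-1,0,-1,0,-3,2,1,0⟩), (1, ⟨-1,0,-3,2,1,0,-1,0⟩), (2, ⟨-1,0,-3,2,1,0,-1,0⟩), (2, ⟨-1,0,-1,0,1,-2,1,0⟩), (2, ⟨-3,2,1,0,1,0,1,0⟩)]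

/-- The unit of order five. -/
def uQ : Q8 := ⟨-1,1,-1,0,0,-1,0,0⟩

/-- The coordinates of the vectors of the basis of the Leech lattice. -/
def bVT : List V3 := [(⟨-2,0,0,0,0,0,0,0⟩, ⟨-2,0,0,0,0,0,0,0⟩, ⟨1,-2,-1,0,-1,0,-1,0⟩), (⟨-2,-1,-1,0,0,0,-1,1⟩, ⟨-3,0,0,1,1,-1,0,0⟩, ⟨4,-4,-3,1,-4,1,-3,0⟩), (⟨-1,-1,0,-1,0,0,-1,2⟩, ⟨-3,1,0,1,2,-2,-1,0⟩, ⟨6,-4,-3,2,-3,1,-4,1⟩), (⟨0,-1,0,-1,2,-1,-2,3⟩, ⟨-3,2,1,0,1,-2,-1,0⟩, ⟨8,-4,-4,2,-4,2,-6,2⟩), (⟨1,-1,0,-1,2,0,-3,4⟩, ⟨-3,3,0,1,0,-2,-1,0⟩, ⟨9,-3,-2,1,-4,2,-7,2⟩), (⟨2,-1,-1,0,2,0,-3,5⟩, ⟨-2,4,1,1,0,-3,-1,0⟩, ⟨11,-4,-2,1,-3,1,-8,2⟩), (⟨2,-1,-1,0,2,0,-3,5⟩,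 ⟨0,4,1,1,-2,-3,-1,0⟩, ⟨13,-4,-2,1,-5,1,-8,2⟩), (⟨2,-1,-1,0,2,0,-3,5⟩, ⟨0,4,1,1,-2,-3,-1,0⟩, ⟨17,-4,-2,1,-5,1,-8,2⟩), (⟨3,-1,-2,0,3,0,-2,5⟩, ⟨1,4,2,1,-3,-3,0,0⟩, ⟨18,-3,-3,2,-4,0,-9,3⟩), (⟨3,-1,-2,0,3,0,-2,5⟩, ⟨2,5,3,0,-2,-4,-1,1⟩, ⟨19,-2,-2,1,-3,-1,-10,4⟩), (⟨3,-1,-2,0,3,0,-2,5⟩, ⟨4,5,5,0,-2,-4,-1,1⟩, ⟨21,-2,0,1,-3,-1,-10,4⟩), (⟨3,0,-3,0,3,0,-3,6⟩, ⟨5,5,7,-1,-1,-5,-1,1⟩, ⟨24,-3,0,1,-4,-1,-10,5⟩), (⟨-1,0,1,0,-1,0,1,-2⟩, ⟨-2,0,0,-2,-2,2,0,0⟩, ⟨-1,-2,1,-2,3,-2,1,0⟩), (⟨0,0,0,0,0,0,0,0⟩, ⟨2,-2,0,2,0,0,2,0⟩, ⟨0,0,-2,0,-6,2,0,-2⟩), (⟨0,0,0,0,0,0,0,0⟩, ⟨0,0,2,-2,-4,2,2,0⟩, ⟨0,0,-2,-2,-4,2,-2,0⟩),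 (⟨0,0,0,0,0,0,0,0⟩, ⟨0,0,-4,4,0,0,0,0⟩, ⟨-2,2,6,-2,2,-2,2,-2⟩), (⟨0,0,0,0,0,0,0,0⟩, ⟨-2,0,-4,2,-2,2,0,0⟩, ⟨-2,4,4,-2,-2,2,0,0⟩), (⟨0,0,0,0,0,0,0,0⟩, ⟨-5,0,-11,6,5,0,-5,0⟩, ⟨-5,4,13,-2,13,-4,3,0⟩), (⟨0,0,0,0,0,0,0,0⟩, ⟨-3,0,-9,6,3,0,-3,0⟩, ⟨-1,4,15,-4,13,-6,1,0⟩), (⟨0,0,0,0,0,0,0,0⟩, ⟨1,0,3,-2,-1,0,1,0⟩, ⟨-3,2,1,0,-3,4,1,0⟩), (⟨0,0,0,0,0,0,0,0⟩, ⟨-1,0,-3,2,1,0,-1,0⟩, ⟨17,-22,-37,10,5,-22,-5,0⟩), (⟨0,0,0,0,0,0,0,0⟩, ⟨0,0,0,0,0,0,0,0⟩, ⟨2,-4,-8,2,2,-6,0,0⟩), (⟨0,0,0,0,0,0,0,0⟩, ⟨0,0,0,0,0,0,0,0⟩, ⟨-4,2,0,0,2,-2,2,0⟩), (⟨0,0,0,0,0,0,0,0⟩, ⟨0,0,0,0,0,0,0,0⟩, ⟨-6,4,2,0,2,0,2,0⟩)]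

/-- The coordinates of the dual vectors. -/
def dVT : List V3 := [(⟨-6,4,2,0,2,0,2,0⟩, ⟨0,0,0,0,0,0,0,0⟩, ⟨0,0,0,0,0,0,0,0⟩), (⟨2,-2,-4,2,0,0,-2,0⟩, ⟨0,0,0,0,0,0,0,0⟩, ⟨0,0,0,0,0,0,0,0⟩), (⟨0,0,2,-2,-4,2,2,0⟩, ⟨0,0,0,0,0,0,0,0⟩, ⟨0,0,0,0,0,0,0,0⟩), (⟨0,0,0,0,4,-4,0,0⟩, ⟨0,0,0,0,0,0,0,0⟩, ⟨0,0,0,0,0,0,0,0⟩), (⟨0,0,2,-2,0,2,-2,0⟩, ⟨0,0,0,0,0,0,0,0⟩, ⟨0,0,0,0,0,0,0,0⟩), (⟨1,0,-1,2,-1,0,1,0⟩, ⟨-3,2,1,0,1,0,1,0⟩, ⟨0,0,0,0,0,0,0,0⟩), (⟨0,0,0,0,0,0,0,0⟩, ⟨3,-2,-1,0,-1,0,-1,0⟩, ⟨-1,0,1,0,-1,0,-3,2⟩), (⟨-1,0,1,0,-1,0,-3,2⟩, ⟨0,0,0,0,0,0,0,0⟩, ⟨1,0,-1,0,1,0,3,-2⟩), (⟨1,0,-1,0,1,0,3,-2⟩, ⟨-1,0,1,0,-1,0,1,-2⟩,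 ⟨0,0,0,0,0,0,0,0⟩), (⟨0,0,0,0,0,0,0,0⟩, ⟨0,0,-2,0,2,-2,0,2⟩, ⟨0,0,0,0,0,0,0,0⟩), (⟨1,-2,1,0,1,0,1,0⟩, ⟨1,0,1,0,-1,2,-1,0⟩, ⟨0,0,0,0,0,0,0,0⟩), (⟨-1,2,-1,0,-1,0,-1,0⟩, ⟨-1,0,1,0,-1,0,-3,2⟩, ⟨0,0,0,0,0,0,0,0⟩), (⟨3,0,1,0,-1,0,1,-2⟩, ⟨-3,0,3,0,-3,0,-9,6⟩, ⟨0,0,0,0,0,0,0,0⟩), (⟨2,0,2,0,0,0,0,0⟩, ⟨0,-2,2,0,-2,0,-8,6⟩, ⟨0,0,0,0,0,0,0,0⟩), (⟨-1,0,-1,-1,0,0,0,1⟩, ⟨2,-1,0,0,-1,1,-1,0⟩, ⟨0,0,0,-1,1,0,1,-1⟩), (⟨-1,1,-1,-1,1,-1,1,-1⟩, ⟨-2,2,0,0,0,0,0,0⟩, ⟨0,0,0,0,0,0,2,-2⟩), (⟨0,0,0,1,-1,0,-1,1⟩, ⟨-1,1,-1,0,0,1,2,0⟩, ⟨0,0,0,1,-1,0,-1,1⟩), (⟨1,0,-1,0,1,0,1,0⟩, ⟨0,-1,2,-1,-2,1,-8,5⟩, ⟨0,0,0,0,0,0,2,-2⟩),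 (⟨-1,-1,2,0,-1,0,-4,3⟩, ⟨3,-1,-4,2,1,0,8,-3⟩, ⟨1,-1,0,0,1,0,-2,3⟩), (⟨-1,-3,4,0,-1,0,-10,9⟩, ⟨6,-2,-9,5,-2,3,7,4⟩, ⟨4,-4,-1,1,2,1,1,4⟩), (⟨-1,0,1,0,-1,0,-1,0⟩, ⟨1,0,-3,4,-1,0,1,0⟩, ⟨1,-1,-1,-1,1,1,-1,3⟩), (⟨3,0,-3,0,3,0,-3,6⟩, ⟨-2,-1,10,-17,2,3,-4,5⟩, ⟨-3,3,3,7,-3,-5,5,-13⟩), (⟨1,-5,4,0,1,0,4,-3⟩, ⟨4,0,-9,13,2,-3,11,-10⟩, ⟨3,-3,0,-8,1,4,-2,11⟩), (⟨-1,5,-2,0,-3,0,-2,-1⟩, ⟨-5,0,8,-5,-5,1,-16,10⟩, ⟨-3,3,-2,4,1,-2,0,-5⟩)]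

/-- The dual vectors in the Leech coordinates. -/
def dTT : List (List ℤ) := [[8,0,0,0,0,0,0,0,0,0,0,0,0,0,0,0,0,0,0,0,0,0,0,0], [(-4),4,0,0,0,0,0,0,0,0,0,0,0,0,0,0,0,0,0,0,0,0,0,0], [0,(-4),4,0,0,0,0,0,0,0,0,0,0,0,0,0,0,0,0,0,0,0,0,0], [0,0,(-4),4,0,0,0,0,0,0,0,0,0,0,0,0,0,0,0,0,0,0,0,0], [0,0,0,(-4),4,0,0,0,0,0,0,0,0,0,0,0,0,0,0,0,0,0,0,0], [0,0,0,0,(-4),4,0,0,0,0,0,0,0,0,0,0,0,0,0,0,0,0,0,0], [0,0,0,0,0,(-4),4,0,0,0,0,0,0,0,0,0,0,0,0,0,0,0,0,0], [0,0,0,0,0,0,(-4),4,0,0,0,0,0,0,0,0,0,0,0,0,0,0,0,0], [0,0,0,0,0,0,0,(-4),4,0,0,0,0,0,0,0,0,0,0,0,0,0,0,0], [0,0,0,0,0,0,0,0,(-4),4,0,0,0,0,0,0,0,0,0,0,0,0,0,0],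 [0,0,0,0,0,0,0,0,0,(-4),4,0,0,0,0,0,0,0,0,0,0,0,0,0], [0,0,0,0,0,0,0,0,0,0,(-4),4,0,0,0,0,0,0,0,0,0,0,0,0], [(-2),(-2),(-2),(-2),(-2),0,0,(-2),0,0,(-2),12,2,0,0,0,0,0,0,0,0,0,0,0], [0,(-2),(-2),(-2),(-2),(-2),0,0,(-2),0,0,10,0,2,0,0,0,0,0,0,0,0,0,0], [0,0,2,2,2,(-2),(-2),0,0,(-2),0,0,(-2),0,2,0,0,0,0,0,0,0,0,0], [0,0,0,2,2,2,(-2),(-2),0,0,(-2),0,0,(-2),0,2,0,0,0,0,0,0,0,0], [0,0,0,0,(-2),2,2,2,(-2),0,0,(-2),0,0,(-2),0,2,0,0,0,0,0,0,0], [0,0,0,0,0,(-2),(-2),(-2),(-2),(-2),0,8,(-2),0,0,2,0,2,0,0,0,0,0,0], [0,0,0,0,0,0,2,6,(-2),2,2,(-8),0,2,0,(-4),2,(-4),2,0,0,0,0,0], [0,0,0,0,0,0,0,14,(-14),2,6,(-6),(-4),4,(-2),(-8),8,(-10),8,2,0,0,0,0],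 [0,0,0,0,0,0,0,2,0,0,0,0,2,0,2,(-6),0,(-6),2,2,2,0,0,0], [0,0,0,0,0,0,0,0,(-10),0,0,0,(-12),2,(-12),26,6,24,(-6),(-10),(-10),2,0,0], [0,0,0,0,0,0,0,0,10,0,10,(-10),6,0,10,(-22),(-6),(-18),6,10,8,(-6),2,0], [(-1),(-1),(-1),(-1),(-1),(-1),(-1),(-1),(-1),(-1),(-11),19,1,(-1),(-3),9,1,7,(-5),(-5),(-3),5,(-1),1]]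

end Cfsg.Agent.Lib.J2Leech
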